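import Mathlib
import Cfsg.Agent.TcData.Suz.I1782.Rep
import Cfsg.Agent.TcData.Suz.Ch.Low
import Cfsg.Agent.TcData.SuzX.Cl.Up
import Cfsg.Agent.TcData.Suz.R4.Up
import Cfsg.Agent.TcData.Suz.R3.Up
import Cfsg.Agent.TcData.Suz.R2.Up
import Cfsg.Agent.TcData.Suz.R1.Up
import Cfsg.Agent.TcData.Suz.R0.Up

set_option autoImplicit false
set_option Elab.async false
set_option maxRecDepth 100000
set_option linter.all false

namespace Cfsg.Agent.TcData.Suz.Fin

open Cfsg.Spor Cfsg.Agent.Lib.TcFacts Cfsg.Agent.Lib.TcBits Cfsg.Agent.Lib.TcPres Cfsg.Agent.Lib.TcRel Cfsg.Agent.Lib.TcChain Cfsg.Spor.Suz Cfsg.Agent.TcData.Suz Cfsg.Agent.TcData.Suz.I1782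

theorem t0 : Nat.card (subOf RR ([] : List Gen)) ≠ 0 ∧ Nat.card (subOf RR ([] : List Gen)) ≤ 1 := tower_nil

theorem t1 : Nat.card (subOf RR Cfsg.Agent.TcData.Suz.R4.SL) ≠ 0 ∧ Nat.card (subOf RR Cfsg.Agent.TcData.Suz.R4.SL) ≤ 1 * 16 :=
  tower_step Cfsg.Agent.TcData.Suz.R4.hTS t0 Cfsg.Agent.TcData.Suz.R4.relIndex_le'

theorem t2 : Nat.card (subOf RR Cfsg.Agent.TcData.Suz.R3.SL) ≠ 0 ∧ Nat.card (subOf RR Cfsg.Agent.TcData.Suz.R3.SL) ≤ 1 * 16 * 135 :=
  tower_step Cfsg.Agent.TcData.Suz.R3.hTS t1 Cfsg.Agent.TcData.Suz.R3.relIndex_le'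

theorem t3 : Nat.card (subOf RR Cfsg.Agent.TcData.Suz.R2.SL) ≠ 0 ∧ Nat.card (subOf RR Cfsg.Agent.TcData.Suz.R2.SL) ≤ 1 * 16 * 135 * 280 :=
  tower_step Cfsg.Agent.TcData.Suz.R2.hTS t2 Cfsg.Agent.TcData.Suz.R2.relIndex_le'

theorem t4 : Nat.card (subOf RR Cfsg.Agent.TcData.Suz.R1.SL) ≠ 0 ∧ Nat.card (subOf RR Cfsg.Agent.TcData.Suz.R1.SL) ≤ 1 * 16 * 135 * 280 * 416 :=
  tower_step Cfsg.Agent.TcData.Suz.R1.hTS t3 Cfsg.Agent.TcData.Suz.R1.relIndex_le'

theorem t5 : Nat.card (subOf RR Cfsg.Agent.TcData.Suz.R0.SL) ≠ 0 ∧ Nat.card (subOf RR Cfsg.Agent.TcData.Suz.R0.SL) ≤ 1 * 16 * 135 * 280 * 416 * 1782 :=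
  tower_step Cfsg.Agent.TcData.Suz.R0.hTS t4 Cfsg.Agent.TcData.Suz.R0.relIndex_le'

theorem up : Nat.card (PresentedGroup RR) ≠ 0 ∧ Nat.card (PresentedGroup RR) ≤ 448345497600 := by
  have h := tower_top (S := Cfsg.Agent.TcData.Suz.R0.SL) (by intro x; cases x <;> decide) t5
  norm_num at h
  exact h

theorem main : Nat.card (PresentedGroup RR) = 448345497600 ∧ Function.Injective Phi :=
  card_eq_of_bounds Phi up Cfsg.Agent.TcData.Suz.Ch.hK Cfsg.Agent.TcData.Suz.Ch.low

instance instFinite : Finite (PresentedGroup RR) := Nat.finite_of_card_ne_zero up.1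

instance instNontrivial : Nontrivial (PresentedGroup RR) := by
  apply Finite.one_lt_card_iff_nontrivial.mp
  rw [main.1]
  norm_num

theorem habL : ∀ x ∈ gensL, ∀ j, j < 11 →
    progApply (pr x) (Nat.land (slice 11 j) (2 ^ (2 ^ 11) - 2 ^ 1782)) =
      Nat.land (slice 11 j) (2 ^ (2 ^ 11) - 2 ^ 1782) := by decide +kernel

theorem hab : ∀ x, ∀ i, 1782 ≤ i → progPerm (pr x) i = i :=
  fix_above_gen (by norm_num) (by norm_num) hv gensL (by intro x; cases x <;> decide) habL

theorem faith (g : PresentedGroup RR) (hg : ∀ q : PresentedGroup RR ⧸ HH, g • q = q) : g = 1 :=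
  faithful_of_fix hR HH hfix bij.2.2.2 hab main.2 g hg

/-- The masks of the orbits. -/
def masks : List (ℕ × ℕ) := [(O1, 1), (O2, 47)]

/-- The possible sizes of blocks. -/
def Rp : ℕ := nat_lit 0x40000000000000000000000000000000000000000000000000000000000000000000000000000000000000000000000000000000400000000000000000000000000000000000000000000000000000000000000000000000000000000000000000000000000000000000000000000000000000000000000000000000000000000000000000000000000000000000000000000000000000000000000000000000000000000000000000000200000000000000000000000000000000000000000000000000000000000000000000000000000000000000000000000000000002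

theorem hSm : ∀ e ∈ masks, Sound Phi HH e.2 e.1 := by
  intro e he
  simp only [masks, List.mem_cons, List.not_mem_nil, or_false] at he
  rcases he with rfl | rfl
  exacts [O1_sound, O2_sound]

theorem hpm : ∀ e ∈ masks, e.2 < 1782 := by decide +kernel

theorem hrun : primFold 11 (masks.map Prod.fst) 1 2 = some (2 ^ 1782 - 1, Rp) := by decide +kernel

theorem hdivC : allRange (divOK 1782 Rp) 12 0 = true := by decide +kernel

theorem prim : MulAction.IsPreprimitive (PresentedGroup RR) (PresentedGroup RR ⧸ HH) :=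
  preprimitive_of_masks HH hfix bij.1 bij.2.1 bij.2.2.1 bij.2.2.2 (k := 11) (by norm_num) masks hSm hpm hrun
    (hdiv_of_check (K := 12) (by norm_num) (by norm_num) hdivC) (by norm_num)

/-- The element of order a power of the prime. -/
noncomputable def xW : FreeGroup Gen := b * c * d * e * f * g

theorem hxSl : ∀ j, j < 11 → wordApply (sgnProg pr) (xW ^ (11 ^ 1)).toWord (slice 11 j) = slice 11 j := by
  decide +kernel

theorem hxp : (PresentedGroup.mk RR xW) ^ (11 ^ 1) = 1 :=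
  mk_pow_eq_one hR hv main.2 hxSl

theorem hRX : ∀ r ∈ Cfsg.Agent.TcData.SuzX.RR, r ∈ RR ∨ r = xW := by
  intro r hr
  rcases hr with h | h
  · exact Or.inl (Or.inl h)
  · have h2 : r ∈ extra ++ [xW] := h
    rcases List.mem_append.mp h2 with h3 | h3
    · exact Or.inl (Or.inr h3)
    · exact Or.inr (List.mem_singleton.mp h3)

theorem triv : Subsingleton (PresentedGroup Cfsg.Agent.TcData.SuzX.RR) := by
  have e : Cfsg.Agent.TcData.SuzX.Cl.HH = ⊥ := by simp [Cfsg.Agent.TcData.SuzX.Cl.HH, Cfsg.Agent.TcData.SuzX.Cl.SS]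
  have h := Cfsg.Agent.TcData.SuzX.Cl.index_le'
  rw [e] at h
  exact subsingleton_of_index_bot h

theorem clos : Subgroup.normalClosure {PresentedGroup.mk RR xW} = ⊤ :=
  normalClosure_mk_eq_top hRX triv

theorem final : IsSimpleGroup (PresentedGroup RR) ∧ Nat.card (PresentedGroup RR) = 448345497600 := by
  refine ⟨?_, main.1⟩
  refine isSimple_of_primitive HH faith prim (p := 11) (a := 1) (m := 1) (by norm_num) ?_ ?_
    (PresentedGroup.mk RR xW) hxp clos
  · rw [bij.1]
    norm_num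
  · rw [main.1]
    norm_num

end Cfsg.Agent.TcData.Suz.Fin
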